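import Cfsg.Agent.H928.War.TwT
import Cfsg.Agent.H928.Ore.TwAll

/-!
`²E₆(q)`, all `q`: every element is a product of two elements of order prime to `p` (S2453); the row of S2453.

* `ord_dg` : the order of an element of `SL₃(K)` with irreducible characteristic polynomial is prime to `p`;
* `ss_one` : `SS p 1`; `kl_2E6` : the row.
-/

set_option autoImplicit false
set_option linter.unusedSectionVars false

namespace Cfsg.Agent.H928.War.TwOne

open CoxeterSystem Cfsg.Agent.ChevalleyStructure.CoxeterGeom Cfsg.Agent.Tits.Roots Cfsg.Agent.Tits.Core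
  Cfsg.Agent.Nodes Cfsg.Agent.Nodes.Reps Cfsg.Agent.Nodes.BNOf Cfsg.Agent.Nodes.RGDLib Cfsg.Agent.Nodes.Bruhat
  Cfsg.Agent.Nodes.OppDec Cfsg.Agent.Nodes.LeviDec Cfsg.Agent.Nodes.StabComb Cfsg.Agent.Nodes.KindChev
  Cfsg.Agent.Nodes.ChevCls
  Cfsg.Agent.OddHalf.NI.ModelChev
  Cfsg.Agent.H162.GaussDec Cfsg.Agent.H162.GaussLevi Cfsg.Agent.H162.GaussSL Cfsg.Agent.H162.GaussReg
  Cfsg.Agent.H928.Ore.Frame Cfsg.Agent.H928.Ore.Fix Cfsg.Agent.H928.Ore.Block Cfsg.Agent.H928.Ore.TwE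
  Cfsg.Agent.H928.Ore.TwS Cfsg.Agent.H928.Ore.TwF Cfsg.Agent.H928.Ore.TwN Cfsg.Agent.H928.Ore.TwRow
  Cfsg.Agent.H928.Ore.TwFin Cfsg.Agent.H928.War.TwT
open Cfsg.Lie Cfsg.Agent.ChevalleyStructure Cfsg.Agent.ChevalleyStructure.Elts
  Cfsg.Agent.ChevalleyStructure.NPerm
  Cfsg.Agent.ChevalleyStructure.CoxeterGeomTypes Cfsg.Agent.Nodes.RGDChev Cfsg.Agent.KFacts.RgdChevCoord
open Cfsg.Agent.Nodes.RGDTwGen Cfsg.Agent.Nodes.RGDFold Cfsg.Agent.Nodes.RGDTwE6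
open Cfsg.Agent.Nodes.RGDFoldSL (Fx mem_Fx)
open Cfsg.Agent.FixBN.FieldRGD (uu vv dd ww)
open Cfsg.Agent.H162.GaussExcMain (r6 rt6 exists_hom_D w6)
open Cfsg.Agent.H130.War (SS PP)
open Cfsg.Agent.H194.Ore (M3)
open scoped MatrixGroups

universe u

/-! ### The orders -/

theorem dg3_pow {K : Type*} [Field K] (a b : Kˣ) {N : ℕ} (ha : a ^ N = 1) (hb : b ^ N = 1) : dg3 a b ^ N = 1 := by
  apply Subtype.ext
  rw [Matrix.SpecialLinearGroup.coe_pow]
  change (Matrix.diagonal ![(a : K), ((a⁻¹ * b : Kˣ) : K), ((b⁻¹ : Kˣ) : K)]) ^ N = 1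
  rw [Matrix.diagonal_pow, ← Matrix.diagonal_one]
  congr 1
  funext i
  fin_cases i
  · change (a : K) ^ N = 1
    rw [← Units.val_pow_eq_pow_val, ha, Units.val_one]
  · change ((a⁻¹ * b : Kˣ) : K) ^ N = 1
    rw [← Units.val_pow_eq_pow_val, mul_pow, inv_pow, ha, hb, inv_one, one_mul, Units.val_one]
  · change ((b⁻¹ : Kˣ) : K) ^ N = 1
    rw [← Units.val_pow_eq_pow_val, inv_pow, hb, inv_one, Units.val_one]

/-- the order of a semisimple element is prime to `p` -/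
theorem ord_dg {K : Type u} [Field K] {p : ℕ} [Fact p.Prime] [CharP K p] {X : Matrix.SpecialLinearGroup (Fin 3) K}
    (hX : DG K X) : (orderOf X).Coprime p := by
  obtain ⟨K', _, _, ι, a, b, P, e, -⟩ := hX
  have hcp : CharP K' p := by
    rw [← (RingHom.charP_iff ι ι.injective p)]
    infer_instance
  have hinj : Function.Injective (Matrix.SpecialLinearGroup.map ι : Matrix.SpecialLinearGroup (Fin 3) K →*
      Matrix.SpecialLinearGroup (Fin 3) K') := by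
    intro A B h
    apply Subtype.ext
    ext i j
    have h2 := congrFun (congrFun (congrArg Subtype.val h) i) j
    exact ι.injective h2
  have h1 : (Matrix.SpecialLinearGroup.map ι X) ^ Nat.card K'ˣ = 1 := by
    rw [e, conj_pow, dg3_pow a b pow_card_eq_one' pow_card_eq_one', mul_one, mul_inv_cancel]
  have h2 : orderOf X ∣ Nat.card K'ˣ := by
    rw [← orderOf_injective _ hinj X]
    exact orderOf_dvd_of_pow_eq_one h1
  refine Nat.Coprime.of_dvd_left h2 ?_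
  have := Fintype.ofFinite K'
  obtain ⟨n, hn, hc⟩ := FiniteField.card K' p
  rw [Nat.card_units, Nat.card_eq_fintype_card, hc]
  have h3 : 1 ≤ p ^ (n : ℕ) := Nat.one_le_pow _ _ (Fact.out : p.Prime).pos
  rw [Nat.coprime_comm, (Fact.out : p.Prime).coprime_iff_not_dvd]
  intro h4
  have h5 : p ∣ p ^ (n : ℕ) := dvd_pow_self p n.ne_zero
  have h6 : p ∣ 1 := by
    have := (Nat.dvd_sub_iff_right h3 h5).1 h4
    exact this
  exact (Fact.out : p.Prime).one_lt.ne' (Nat.dvd_one.1 h6)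

/-- the order of a conjugate of `s f(X)` -/
theorem ord_conj {Y Z : Type*} [Group Y] [Group Z] {p : ℕ} (f : Z →* Y) {s : Y} {X : Z} (hs : (orderOf s).Coprime p)
    (hX : (orderOf X).Coprime p) (h : s * f X = f X * s) (x : Y) : (orderOf (x * (s * f X) * x⁻¹)).Coprime p := by
  rw [show x * (s * f X) * x⁻¹ = MulAut.conj x (s * f X) from rfl, MulEquiv.orderOf_eq]
  have hc : Commute s (f X) := h
  refine Nat.Coprime.of_dvd_left hc.orderOf_mul_dvd_mul_orderOf ?_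
  exact Nat.Coprime.mul_left hs (Nat.Coprime.of_dvd_left (orderOf_map_dvd f X) hX)

/-! ### The row -/

theorem m3_all {K : Type u} [Field K] [Fintype K] {q : ℕ} (hq : IsPrimePow q) (hK : Fintype.card K = q ^ 2)
    {φ : K →+* K} (hφ : ∀ t, φ t = t ^ q) : M3 (Fx φ 1) := by
  have h := card_Fx hq.one_lt hK hφ
  by_cases h2 : q = 2 ∨ q = 3
  · exact m3_small (by rw [h]; exact h2)
  · refine Cfsg.Agent.H928.Ore.TwAll.m3 _ ?_
    rw [h]
    have := hq.one_lt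
    omega

/-- **Two semisimple elements.** -/
theorem ss_one {K : Type u} [Field K] [Fintype K] {q p : ℕ} [Fact p.Prime] [CharP K p] (hq : IsPrimePow q)
    (hK : Fintype.card K = q ^ 2) : SS p 1 ↥(twistedE6 K q) := by
  obtain ⟨φ, hφ, hqq⟩ := TwE6Basic.exists_frob hq hK
  have := finite_tw K q
  have R := RGDTwE6.rgd CoxeterMatrix.F₄.toCoxeterSystem hφ hqq p
  have : Finite CoxeterMatrix.F₄.Group := Cfsg.Agent.Nodes.RGDFold.finite_W (hp := RGDTwE6.hp)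
    CoxeterMatrix.F₄.toCoxeterSystem RGDTwE6.isCartan RGDTwE6.foldData
  have hS := Cfsg.Agent.S1070.result hq hK
  have := hS.1
  have : CharP (Fx φ 1) p := by
    rw [RingHom.charP_iff (Fx φ 1).subtype (Fx φ 1).subtype.injective p]
    infer_instance
  obtain ⟨P, hP⟩ := exists_hom_D RGDTwE6.hp (K := K) (ε := 1) (by norm_num) rt6.1 rt6.2.1 rt6.2.2.1 rt6.2.2.2
  obtain ⟨f, hf⟩ := exists_f hφ hqq hP
  obtain ⟨l, hl, h1, h2⟩ := exists_norm_one hφ hq.one_lt hK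
  obtain ⟨s, hs⟩ := exists_inc hφ hqq (sgY_s0 hl)
  have hs' : inc K q s⁻¹ = s0 l⁻¹ := by rw [map_inv, hs, s0_inv]
  have h1' : l⁻¹ ≠ 1 := by rwa [ne_eq, inv_eq_one]
  have h2' : l⁻¹ * l⁻¹ ≠ 1 := by
    rw [← mul_inv, ne_eq, inv_eq_one]
    exact h2
  have hsf := s_comm (φ := φ) hP hf hs
  have hsf' := s_comm (φ := φ) hP hf hs'
  have hb : ∀ v ∈ UNJ CoxeterMatrix.F₄.toCoxeterSystem RGDTwE6.isCartan (RGDTwE6.X φ q) JR,
      ∀ u ∈ UJ CoxeterMatrix.F₄.toCoxeterSystem RGDTwE6.isCartan (RGDTwE6.X φ q) JR, ∃ c₁ c₂, v * u = c₁ * c₂ ∧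
        LP CoxeterMatrix.F₄.toCoxeterSystem RGDTwE6.isCartan (T K q) (RGDTwE6.X φ q) JR c₁ c₂ ∧
        (∀ x, (orderOf (x * c₁ * x⁻¹)).Coprime p) ∧ ∀ x, (orderOf (x * c₂ * x⁻¹)).Coprime p := by
    intro v hv u hu
    obtain ⟨L, hL, rfl⟩ := lo_f hφ hqq hP hf _ hv
    obtain ⟨U, hU, rfl⟩ := up_f hφ hqq hP hf _ hu
    obtain ⟨X, Y, hXY, hX, hY, -⟩ := m3_all hq hK hφ L hL U hU
    have hsT : s ∈ LJ CoxeterMatrix.F₄.toCoxeterSystem RGDTwE6.isCartan (T K q) (RGDTwE6.X φ q) JR :=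
      T_le_LJ (s_T hs)
    refine ⟨s * f X, s⁻¹ * f Y, ?_, ⟨mul_mem hsT (f_LJ hφ hqq hP hf _ X), mul_mem (inv_mem hsT) (f_LJ hφ hqq hP hf _ Y),
      (s_nf hφ hqq hP hf h1 h2 hs _ hX).2, (s_nf hφ hqq hP hf h1' h2' hs' _ hY).1⟩, ?_, ?_⟩
    · rw [← map_mul, hXY, map_mul, hsf]
      group
    · exact ord_conj f (Cfsg.Agent.H928.War.Rgd.ord_T R (s_T hs)) (ord_dg (dg_of hX)) (hsf X)
    · exact ord_conj f (Cfsg.Agent.H928.War.Rgd.ord_T R (s_T hs')) (ord_dg (dg_of hY)) (hsf' Y)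
  intro g
  by_cases hg : g = 1
  · exact ⟨1, 1, by rw [hg]; simp, by rw [orderOf_one]; exact Nat.coprime_one_left p,
      by rw [orderOf_one]; exact Nat.coprime_one_left p⟩
  · obtain ⟨c₁, c₂, x, y, ⟨e1, e2⟩, e3⟩ := pair R (RGDTwE6.G1_eq_top CoxeterMatrix.F₄.toCoxeterSystem hφ hqq)
      (Cfsg.Agent.H958.TS.TwCommon.coordP hφ hqq) (Cfsg.Agent.Nodes.ChevChart.irr_of Cfsg.Agent.Nodes.ChevChart.irrF)
      (Pr := fun c₁ c₂ => (∀ x, (orderOf (x * c₁ * x⁻¹)).Coprime p) ∧ ∀ x, (orderOf (x * c₂ * x⁻¹)).Coprime p) hb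
      (Cfsg.Agent.H928.War.Rgd.core_trivial R hg)
    exact ⟨x * c₁ * x⁻¹, y * c₂ * y⁻¹, by rw [pow_one, pow_one, e3], e1 x, e2 y⟩

/-- **The row `²E₆(q)` of S2453.** -/
theorem kl_2E6 {K : Type u} [Field K] [Fintype K] {q : ℕ} (hq : IsPrimePow q) (hK : Fintype.card K = q ^ 2) {k l : ℕ}
    (hk : 2 ≤ k) (hl : 2 ≤ l) (hg : ¬ k.Coprime l)
    (hbig : (max k l) ^ (8 * (max k l) ^ 2) ≤ Nat.card ↥(twistedE6 K q)) :
    Cfsg.Agent.H134.War.KL ↥(twistedE6 K q) k l := by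
  obtain ⟨p, hpc⟩ := CharP.exists K
  have hp : p.Prime := (CharP.char_is_prime_or_zero K p).resolve_right (CharP.char_ne_zero_of_finite K p)
  have : Fact p.Prime := ⟨hp⟩
  by_cases hd : p ∣ k ∨ p ∣ l
  · refine Cfsg.Agent.H130.War.SS.kl' (p := p) ?_
    by_cases hm : max k l ≤ 5
    · rw [Cfsg.Agent.H130.War.ee_eq_one hp hk hl hg hm hd]
      exact ss_one hq hK
    · have h0 : k.lcm l ≠ 0 := Nat.lcm_ne_zero (by omega) (by omega)
      refine ss_large hq hK (Nat.ordCompl_pos p h0) ?_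
      exact arith (by omega) (hbig.trans (card_le hq hK)) (Cfsg.Agent.H130.War.ee_le (by omega) hg)
  · rw [not_or] at hd
    exact Cfsg.Agent.H130.War.PP.kl hp (pp hq hK) hd.1 hd.2

end Cfsg.Agent.H928.War.TwOne
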