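import Cfsg.Agent.H928.Ore.Fix
import Cfsg.Agent.H130.War.Base

/-!
Root group data: products of two `p`-elements and of two powers (S2453, S2465).

* `pp` : every element of a simple group with a root group datum is a product of two `p`-elements;
* `ss_reg`, `ss_nf` : every element is `x ^ e * y ^ e` for `x`, `y` conjugate to `t`, `t⁻¹`, if `t ^ e` is a regular element of `T`.
-/

set_option autoImplicit false
set_option linter.unusedSectionVars false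

namespace Cfsg.Agent.H928.War.Rgd

open CoxeterSystem Cfsg.Agent.ChevalleyStructure.CoxeterGeom Cfsg.Agent.Tits.Roots Cfsg.Agent.Tits.Core
  Cfsg.Agent.Nodes.Reps
  Cfsg.Agent.Nodes.BNOf Cfsg.Agent.Nodes.StabComb
  Cfsg.Agent.Nodes.RGDLib Cfsg.Agent.Nodes.Bruhat Cfsg.Agent.Nodes.OppDec Cfsg.Agent.Nodes.LeviDec
  Cfsg.Agent.OddHalf.NI.Mult
  Cfsg.Agent.H162.GaussDec Cfsg.Agent.H162.GaussLevi Cfsg.Agent.H162.GaussSL Cfsg.Agent.H928.Ore.Frame
open Cfsg.Agent.H130.War (PP SS)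

variable {I W Y : Type*} [Fintype I] [DecidableEq I] [Group W] [Group Y] {M : CoxeterMatrix I}
  {cs : CoxeterSystem M W} {A : I → I → ℤ} {h : IsCartan M A} {p : ℕ} {T : Subgroup Y} {n : I → Y}
  {X : (I → ℤ) → Subgroup Y}

/-- the opposite unipotent group is a `p`-group -/
theorem isPGroup_UN [Finite W] (R : RGD cs h p T n X) : IsPGroup p ↥(UN cs h X) := by
  obtain ⟨k, hk⟩ := exists_rp cs R.nsys (w0 cs)
  have h1 := cj_U R hk
  rw [← h1]
  exact R.isPGroup_Upos.map _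

theorem core_trivial [Finite W] [Nonempty I] [IsSimpleGroup Y] (R : RGD cs h p T n X) {g : Y} (hg : g ≠ 1) :
    g ∉ (RGD.B cs h T X).normalCore := fun h1 => hg (by
  have h3 := Cfsg.Agent.H162.GaussMain.core_le_ker R (MonoidHom.id Y) Function.surjective_id (fun x hx => by
    rw [MonoidHom.mem_ker] at hx
    change x = 1 at hx
    rw [hx]
    exact one_mem _) h1
  exact h3)

variable {F : I → Type*} [∀ i, Field (F i)] {s : ∀ i, Matrix.SpecialLinearGroup (Fin 2) (F i) →* Y}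

/-- **Two `p`-elements.** -/
theorem pp [Finite W] [Nonempty I] [IsSimpleGroup Y] (R : RGD cs h p T n X) (hG : G1 cs h X = ⊤) (C : Coord X F s)
    (hconn : ∀ J : Set I, J.Nonempty → J ≠ Set.univ → ∃ a ∈ J, ∃ b, b ∉ J ∧ M a b ≠ 2) : PP p Y := by
  intro g
  by_cases hg : g = 1
  · exact ⟨1, 1, by rw [hg, mul_one], ⟨0, one_pow _⟩, ⟨0, one_pow _⟩⟩
  obtain ⟨x, v, hv, u, hu, e⟩ := gauss R hG C hconn (core_trivial R hg)
  obtain ⟨a, ha⟩ := isPGroup_UN R ⟨v, hv⟩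
  obtain ⟨b, hb⟩ := R.isPGroup_Upos ⟨u, hu⟩
  have ha' : v ^ p ^ a = 1 := congrArg Subtype.val ha
  have hb' : u ^ p ^ b = 1 := congrArg Subtype.val hb
  have hc : ∀ (z : Y) (m : ℕ), (x⁻¹ * z * x) ^ m = x⁻¹ * z ^ m * x := by
    intro z m
    have := conj_pow (a := x⁻¹) (b := z) (i := m)
    rwa [inv_inv] at this
  refine ⟨x⁻¹ * v * x, x⁻¹ * u * x, ?_, ⟨a, ?_⟩, ⟨b, ?_⟩⟩
  · calc g = x⁻¹ * (x * g * x⁻¹) * x := by group
      _ = _ := by rw [e]; group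
  · rw [hc, ha']; group
  · rw [hc, hb']; group

/-- **Powers of regular elements of the torus.** -/
theorem ss_reg [Finite W] [Finite Y] [Nonempty I] [IsSimpleGroup Y] (R : RGD cs h p T n X) (hG : G1 cs h X = ⊤)
    (C : Coord X F s) (hconn : ∀ J : Set I, J.Nonempty → J ≠ Set.univ → ∃ a ∈ J, ∃ b, b ∉ J ∧ M a b ≠ 2) {t : Y}
    (ht : t ∈ T) {e : ℕ} (hf : NoFix cs h X ∅ (t ^ e)) : SS p e Y := by
  have ho : ∀ z ∈ T, (orderOf z).Coprime p := by
    intro z hz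
    have h1 : orderOf z ∣ Nat.card T := by
      have := orderOf_dvd_natCard (⟨z, hz⟩ : ↥T)
      rwa [← Subgroup.orderOf_coe] at this
    exact Nat.Coprime.of_dvd_left h1 R.tcop
  intro g
  by_cases hg : g = 1
  · exact ⟨1, 1, by rw [hg, one_pow, mul_one], by rw [orderOf_one]; exact Nat.coprime_one_left p,
      by rw [orderOf_one]; exact Nat.coprime_one_left p⟩
  have hte : t ^ e ∈ T := pow_mem ht e
  have hb : ∀ v ∈ UNJ cs h X ∅, ∀ u ∈ UJ cs h X ∅, ∃ c₁ c₂, v * u = c₁ * c₂ ∧ LP cs h T X ∅ c₁ c₂ ∧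
      (c₁ = t ^ e ∧ c₂ = t⁻¹ ^ e) := by
    intro v hv u hu
    have key : ∀ x : I → ℤ, x ∉ PosJ cs h ∅ := by
      rintro x ⟨hx, -, h0⟩
      exact hx.ne_zero (funext fun i => h0 i (Set.notMem_empty i))
    have hv1 : v = 1 := by
      have h1 : UNJ cs h X ∅ ≤ ⊥ := RGD.Sup_le fun x hx => absurd hx (key _)
      exact Subgroup.mem_bot.1 (h1 hv)
    have hu1 : u = 1 := by
      have h1 : UJ cs h X ∅ ≤ ⊥ := RGD.Sup_le fun x hx => absurd hx (key _)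
      exact Subgroup.mem_bot.1 (h1 hu)
    refine ⟨t ^ e, t⁻¹ ^ e, ?_, ⟨T_le_LJ hte, ?_, ?_, ?_⟩, rfl, rfl⟩
    · rw [hv1, hu1, inv_pow, mul_inv_cancel, mul_one]
    · rw [inv_pow]
      exact T_le_LJ (inv_mem hte)
    · intro x hx h1
      exact fix_VNJ R hte hf hx h1
    · intro x hx h1
      rw [inv_pow] at h1
      exact fix_VJ R (inv_mem hte) (Cfsg.Agent.H162.GaussMain.NoFix.inv hf) hx h1
  obtain ⟨c₁, c₂, x, y, ⟨e1, e2⟩, e3⟩ := pair R hG C hconn hb (core_trivial R hg)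
  refine ⟨x * t * x⁻¹, y * t⁻¹ * y⁻¹, ?_, ?_, ?_⟩
  · rw [e3, e1, e2, conj_pow, conj_pow]
  · rw [show x * t * x⁻¹ = MulAut.conj x t from rfl, MulEquiv.orderOf_eq]
    exact ho t ht
  · rw [show y * t⁻¹ * y⁻¹ = MulAut.conj y t⁻¹ from rfl, MulEquiv.orderOf_eq]
    exact ho _ (inv_mem ht)

theorem ord_T (R : RGD cs h p T n X) {z : Y} (hz : z ∈ T) : (orderOf z).Coprime p := by
  have h1 : orderOf z ∣ Nat.card T := by
    have := orderOf_dvd_natCard (⟨z, hz⟩ : ↥T)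
    rwa [← Subgroup.orderOf_coe] at this
  exact Nat.Coprime.of_dvd_left h1 R.tcop

/-- **Powers of regular elements of the torus**, the fixed points on the unipotent groups. -/
theorem ss_nf [Finite W] [Finite Y] [Nonempty I] [IsSimpleGroup Y] (R : RGD cs h p T n X) (hG : G1 cs h X = ⊤)
    (C : Coord X F s) (hconn : ∀ J : Set I, J.Nonempty → J ≠ Set.univ → ∃ a ∈ J, ∃ b, b ∉ J ∧ M a b ≠ 2) {t : Y}
    (ht : t ∈ T) {e : ℕ} (h1 : NF (VNJ cs h X ∅) (t ^ e)) (h2 : NF (VJ cs h X ∅) (t ^ e)) : SS p e Y := by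
  intro g
  by_cases hg : g = 1
  · exact ⟨1, 1, by rw [hg, one_pow, mul_one], by rw [orderOf_one]; exact Nat.coprime_one_left p,
      by rw [orderOf_one]; exact Nat.coprime_one_left p⟩
  have hte : t ^ e ∈ T := pow_mem ht e
  have hb : ∀ v ∈ UNJ cs h X ∅, ∀ u ∈ UJ cs h X ∅, ∃ c₁ c₂, v * u = c₁ * c₂ ∧ LP cs h T X ∅ c₁ c₂ ∧
      (c₁ = t ^ e ∧ c₂ = t⁻¹ ^ e) := by
    intro v hv u hu
    have key : ∀ x : I → ℤ, x ∉ PosJ cs h ∅ := by
      rintro x ⟨hx, -, h0⟩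
      exact hx.ne_zero (funext fun i => h0 i (Set.notMem_empty i))
    have hv1 : v = 1 := by
      have h1 : UNJ cs h X ∅ ≤ ⊥ := RGD.Sup_le fun x hx => absurd hx (key _)
      exact Subgroup.mem_bot.1 (h1 hv)
    have hu1 : u = 1 := by
      have h1 : UJ cs h X ∅ ≤ ⊥ := RGD.Sup_le fun x hx => absurd hx (key _)
      exact Subgroup.mem_bot.1 (h1 hu)
    refine ⟨t ^ e, t⁻¹ ^ e, ?_, ⟨T_le_LJ hte, ?_, h1, ?_⟩, rfl, rfl⟩
    · rw [hv1, hu1, inv_pow, mul_inv_cancel, mul_one]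
    · rw [inv_pow]
      exact T_le_LJ (inv_mem hte)
    · rw [inv_pow]
      exact Cfsg.Agent.H928.Ore.Fix.NF.inv h2
  obtain ⟨c₁, c₂, x, y, ⟨e1, e2⟩, e3⟩ := pair R hG C hconn hb (core_trivial R hg)
  refine ⟨x * t * x⁻¹, y * t⁻¹ * y⁻¹, ?_, ?_, ?_⟩
  · rw [e3, e1, e2, conj_pow, conj_pow]
  · rw [show x * t * x⁻¹ = MulAut.conj x t from rfl, MulEquiv.orderOf_eq]
    exact ord_T R ht
  · rw [show y * t⁻¹ * y⁻¹ = MulAut.conj y t⁻¹ from rfl, MulEquiv.orderOf_eq]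
    exact ord_T R (inv_mem ht)

end Cfsg.Agent.H928.War.Rgd
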