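import Cfsg.Agent.H928.Ore.TwRow
import Cfsg.Agent.H928.War.Rgd
import Cfsg.Agent.S1066

/-!
`²E₆(q)`, powers of regular elements of the torus (S2453).

* `ss_torus` : `SS p e` from a unit `τ` of the fixed field with `τ ^ (e j) ≠ 1` for `0 < |j| ≤ 22`;
* `ss_large` : `SS p e` if `22 e < q - 1`; `card_le` : the order is at most `q ^ 78`.
-/

set_option autoImplicit false
set_option linter.unusedSectionVars false

namespace Cfsg.Agent.H928.War.TwT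

open CoxeterSystem Cfsg.Agent.ChevalleyStructure.CoxeterGeom Cfsg.Agent.Tits.Roots Cfsg.Agent.Tits.Core
  Cfsg.Agent.Nodes Cfsg.Agent.Nodes.Reps Cfsg.Agent.Nodes.BNOf Cfsg.Agent.Nodes.RGDLib Cfsg.Agent.Nodes.Bruhat
  Cfsg.Agent.Nodes.OppDec Cfsg.Agent.Nodes.LeviDec Cfsg.Agent.Nodes.StabComb Cfsg.Agent.Nodes.KindChev
  Cfsg.Agent.Nodes.ChevCls
  Cfsg.Agent.OddHalf.NI.ModelChev
  Cfsg.Agent.H162.GaussDec Cfsg.Agent.H162.GaussLevi Cfsg.Agent.H162.GaussSL Cfsg.Agent.H162.GaussReg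
  Cfsg.Agent.H928.Ore.Frame Cfsg.Agent.H928.Ore.Fix Cfsg.Agent.H928.Ore.Block Cfsg.Agent.H928.Ore.TwE
  Cfsg.Agent.H928.Ore.TwS Cfsg.Agent.H928.Ore.TwF Cfsg.Agent.H928.Ore.TwN
open Cfsg.Lie Cfsg.Agent.ChevalleyStructure Cfsg.Agent.ChevalleyStructure.Elts
  Cfsg.Agent.ChevalleyStructure.NPerm
  Cfsg.Agent.ChevalleyStructure.CoxeterGeomTypes Cfsg.Agent.Nodes.RGDChev Cfsg.Agent.KFacts.RgdChevCoord
open Cfsg.Agent.Nodes.RGDTwGen Cfsg.Agent.Nodes.RGDFold Cfsg.Agent.Nodes.RGDTwE6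
open Cfsg.Agent.Nodes.RGDFoldSL (Fx mem_Fx)
open Cfsg.Agent.FixBN.FieldRGD (uu vv dd ww)
open Cfsg.Agent.H162.GaussExc (sg ch_sg)
open Cfsg.Agent.H130.War (SS PP)
open scoped MatrixGroups

universe u

/-! ### The tables -/

/-- the coefficients of the sum of the positive coroots -/
def mR : Fin 6 → ℤ := ![16, 22, 30, 42, 30, 16]

theorem mR_ga : ∀ i, mR (ga i) = mR i := by decide

theorem tab_mR : ∀ s : Fin 72, (∑ i : Fin 6, mR i * chevE6.cartan i s) ≠ 0 ∧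
    -22 ≤ (∑ i : Fin 6, mR i * chevE6.cartan i s) ∧ (∑ i : Fin 6, mR i * chevE6.cartan i s) ≤ 22 := by decide +kernel

theorem tab0 : ∀ r < chevE6.nroots, (∀ k : Fin 4, 0 ≤ V chevE6 J r k) → (∃ k : Fin 4, 0 < V chevE6 J r k) →
    (∀ k : Fin 6, 0 ≤ vec chevE6 6 r k) ∧ ∃ k : Fin 6, 0 < vec chevE6 6 r k := by
  have h : ∀ r : Fin 72, (∀ k : Fin 4, 0 ≤ V chevE6 J r k) → (∃ k : Fin 4, 0 < V chevE6 J r k) →
    (∀ k : Fin 6, 0 ≤ vec chevE6 6 r k) ∧ ∃ k : Fin 6, 0 < vec chevE6 6 r k := by decide +kernel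
  exact fun r hr => h ⟨r, hr⟩

theorem tab0N : ∀ r < chevE6.nroots, (∀ k : Fin 4, V chevE6 J r k ≤ 0) → (∃ k : Fin 4, V chevE6 J r k < 0) →
    (∀ k : Fin 6, vec chevE6 6 r k ≤ 0) ∧ ∃ k : Fin 6, vec chevE6 6 r k < 0 := by
  have h : ∀ r : Fin 72, (∀ k : Fin 4, V chevE6 J r k ≤ 0) → (∃ k : Fin 4, V chevE6 J r k < 0) →
    (∀ k : Fin 6, vec chevE6 6 r k ≤ 0) ∧ ∃ k : Fin 6, vec chevE6 6 r k < 0 := by decide +kernel
  exact fun r hr => h ⟨r, hr⟩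

section

variable {K : Type u} [Field K] {W : Type*} [Group W] (cs : CoxeterSystem CoxeterMatrix.F₄ W)

theorem U_le (φ : K →+* K) (q : ℕ) : VJ cs RGDTwE6.isCartan (X φ q) ∅ ≤
    (VJ CoxeterMatrix.E₆.toCoxeterSystem RGDTwE6.hp.isCartan (XX chevE6 6 K) ∅).comap (inc K q) := by
  refine RGD.Sup_le fun z hz => X_le fun r hr hrz => ?_
  obtain ⟨-, h0, k, -, hk0⟩ := hz
  obtain ⟨h1, k', h2⟩ := tab0 r hr (fun k => by rw [hrz]; exact h0 k) ⟨k, by rw [hrz]; exact hk0⟩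
  exact RGD.le_Sup ⟨isRoot_vec RGDTwE6.hp _ hr, fun k => h1 k, k', Set.notMem_empty _, h2⟩

theorem UN_le (φ : K →+* K) (q : ℕ) : VNJ cs RGDTwE6.isCartan (X φ q) ∅ ≤
    (VNJ CoxeterMatrix.E₆.toCoxeterSystem RGDTwE6.hp.isCartan (XX chevE6 6 K) ∅).comap (inc K q) := by
  refine RGD.Sup_le fun z hz => X_le fun r hr hrz => ?_
  obtain ⟨-, h0, k, -, hk0⟩ := hz
  obtain ⟨h1, k', h2⟩ := tab0N r hr (fun k => by
      have := h0 k
      rw [hrz]
      simpa using this)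
    ⟨k, by rw [hrz]; simpa using hk0⟩
  refine RGD.le_Sup ⟨(isRoot_vec RGDTwE6.hp _ hr).neg, fun k => ?_, k', Set.notMem_empty _, ?_⟩
  · have := h1 k
    simpa using this
  · simpa using h2

end

/-! ### The torus -/

section

variable {K : Type u} [Field K]

theorem map_dd (φ : K →+* K) (c : K) (hc : c ≠ 0) :
    Matrix.SpecialLinearGroup.map φ (dd c hc) = dd (φ c) ((map_ne_zero φ).2 hc) := by
  apply Subtype.ext
  change (!![c, 0; 0, c⁻¹]).map φ = !![φ c, 0; 0, (φ c)⁻¹]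
  ext i j
  fin_cases i <;> fin_cases j <;> simp

theorem sgY_th (φ : K →+* K) (t : Fin 6 → Kˣ) :
    sgY φ (th RGDTwE6.hp t) = th RGDTwE6.hp fun i => Units.map (φ : K →* K) (t (ga i)) := by
  have key : ∀ t : Fin 6 → Kˣ, (sgY φ (th RGDTwE6.hp t) = th RGDTwE6.hp fun i => Units.map (φ : K →* K) (t (ga i))) := by
    intro t
    rw [← Finset.univ_prod_mulSingle t]
    refine Finset.prod_induction (fun i => Pi.mulSingle i (t i))
      (fun s : Fin 6 → Kˣ => sgY φ (th RGDTwE6.hp s) = th RGDTwE6.hp fun i => Units.map (φ : K →* K) (s (ga i))) ?_ ?_ ?_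
    · intro a b ha hb
      have e : (fun i => Units.map (φ : K →* K) ((a * b) (ga i))) =
          (fun i => Units.map (φ : K →* K) (a (ga i))) * fun i => Units.map (φ : K →* K) (b (ga i)) := by
        funext i
        exact map_mul _ _ _
      rw [map_mul, map_mul, ha, hb, e, map_mul]
    · have e : (fun i : Fin 6 => Units.map (φ : K →* K) ((1 : Fin 6 → Kˣ) (ga i))) = 1 := by
        funext i
        exact map_one _
      rw [map_one, map_one, e, map_one]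
    · intro i _
      have e : (fun j : Fin 6 => Units.map (φ : K →* K) ((Pi.mulSingle i (t i) : Fin 6 → Kˣ) (ga j))) =
          Pi.mulSingle (ga i) (Units.map (φ : K →* K) (t i)) := by
        funext j
        by_cases hj : ga j = i
        · subst hj
          rw [ga_ga, Pi.mulSingle_eq_same, Pi.mulSingle_eq_same]
        · have hj' : j ≠ ga i := fun h => hj (by rw [h, ga_ga])
          rw [Pi.mulSingle_eq_of_ne hj, Pi.mulSingle_eq_of_ne hj', map_one]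
      rw [e, th_mulSingle, th_mulSingle, sgY_sl, map_dd]
      rfl
  exact key t

variable [Fintype K] {φ : K →+* K} {q : ℕ} (hφ : ∀ t, φ t = t ^ q) (hqq : ∀ t : K, (t ^ q) ^ q = t)

include hφ hqq

theorem exists_t {τ : Kˣ} (hτ : φ τ = τ) : ∃ s : ↥(twistedE6 K q), inc K q s = sg RGDTwE6.hp mR τ := by
  refine exists_inc hφ hqq ?_
  unfold sg
  rw [sgY_th]
  congr 1
  funext i
  rw [mR_ga, map_zpow]
  congr 1
  exact Units.ext hτ

omit hqq hφ in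
theorem mem_T {s : ↥(twistedE6 K q)} {τ : Kˣ} (hs : inc K q s = sg RGDTwE6.hp mR τ) : s ∈ T K q := by
  refine Subgroup.mem_subgroupOf.2 ⟨?_, s.2⟩
  have h4 : sg RGDTwE6.hp mR τ ∈ TT chevE6 K := Cfsg.Agent.H162.GaussExc.sg_mem _ _ _
  have h3 := Subgroup.mem_subgroupOf.1 h4
  rw [← hs] at h3
  exact h3

omit [Fintype K] hφ hqq in
theorem sg_pow (τ : Kˣ) (e : ℕ) : sg RGDTwE6.hp mR τ ^ e = sg RGDTwE6.hp mR (τ ^ e) := by
  unfold sg
  rw [← map_pow]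
  congr 1
  funext i
  rw [Pi.pow_apply, ← zpow_natCast, ← zpow_mul, mul_comm, zpow_mul, zpow_natCast]

theorem nf_t {W : Type*} [Group W] (cs : CoxeterSystem CoxeterMatrix.F₄ W) {τ : Kˣ} {e : ℕ}
    (h : ∀ j : ℤ, j ≠ 0 → -22 ≤ j → j ≤ 22 → (τ ^ e) ^ j ≠ 1) {s : ↥(twistedE6 K q)}
    (hs : inc K q s = sg RGDTwE6.hp mR τ) :
    NF (VNJ cs RGDTwE6.isCartan (X φ q) ∅) (s ^ e) ∧ NF (VJ cs RGDTwE6.isCartan (X φ q) ∅) (s ^ e) := by
  obtain ⟨p, hpc⟩ := CharP.exists K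
  have : Fact p.Prime := ⟨(CharP.char_is_prime_or_zero K p).resolve_right (CharP.char_ne_zero_of_finite K p)⟩
  have R := RGDChev.rgd (K := K) RGDTwE6.hp CoxeterMatrix.E₆.toCoxeterSystem p
  have hse : inc K q (s ^ e) = sg RGDTwE6.hp mR (τ ^ e) := by rw [map_pow, hs, sg_pow]
  have hm : sg RGDTwE6.hp mR (τ ^ e) ∈ TT chevE6 K := Cfsg.Agent.H162.GaussExc.sg_mem _ _ _
  have hf : NoFix CoxeterMatrix.E₆.toCoxeterSystem RGDTwE6.hp.isCartan (XX chevE6 6 K) ∅ (sg RGDTwE6.hp mR (τ ^ e)) := by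
    refine noFix_ch RGDTwE6.hp hm fun r hr _ => ?_
    rw [ch_sg RGDTwE6.hp mR _ hr]
    obtain ⟨h1, h2, h3⟩ := tab_mR ⟨r, hr⟩
    exact fun h4 => h _ h1 h2 h3 (Units.ext h4)
  have := Cfsg.Agent.Nodes.RGDChev.finite_W RGDTwE6.hp CoxeterMatrix.E₆.toCoxeterSystem
  constructor
  · refine NF.of_hom _ (inc_injective q) (UN_le cs φ q) ?_
    rw [hse]
    exact fun x hx h5 => fix_VNJ R hm hf hx h5
  · refine NF.of_hom _ (inc_injective q) (U_le cs φ q) ?_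
    rw [hse]
    exact fun x hx h5 => fix_VJ R hm hf hx h5

end

/-! ### The group -/

theorem finite_tw (K : Type u) [Field K] [Finite K] (q : ℕ) : Finite ↥(twistedE6 K q) := by
  have hfin : Finite (GL chevE6.Idx K) := by
    have : Finite (Matrix chevE6.Idx chevE6.Idx K) := inferInstance
    infer_instance
  infer_instance

/-- a unit of the fixed field of order `q - 1` -/
theorem exists_unit {K : Type u} [Field K] [Fintype K] {φ : K →+* K} {q : ℕ} (hφ : ∀ t, φ t = t ^ q) (hq : 1 < q)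
    (hK : Fintype.card K = q ^ 2) : ∃ τ : Kˣ, φ τ = τ ∧ orderOf τ = q - 1 := by
  classical
  obtain ⟨t, ht⟩ := IsCyclic.exists_ofOrder_eq_natCard (α := Kˣ)
  have h2 : Nat.card Kˣ = q ^ 2 - 1 := by
    rw [Nat.card_eq_fintype_card, Fintype.card_units, hK]
  have h3 : q ^ 2 - 1 = (q - 1) * (q + 1) := by
    obtain ⟨m, rfl⟩ : ∃ m, q = m + 2 := ⟨q - 2, by omega⟩
    have e : (m + 2) ^ 2 = (m + 1) * (m + 3) + 1 := by ring
    rw [e]
    simp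
  rw [h2, h3] at ht
  refine ⟨t ^ (q + 1), ?_, ?_⟩
  · rw [hφ]
    have e : (t ^ (q + 1)) ^ q = t ^ (q + 1) := by
      have e1 : (t ^ (q + 1)) ^ (q - 1) = 1 := by
        rw [← pow_mul, mul_comm, ← ht, pow_orderOf_eq_one]
      calc (t ^ (q + 1)) ^ q = (t ^ (q + 1)) ^ (q - 1 + 1) := by rw [Nat.sub_add_cancel hq.le]
        _ = t ^ (q + 1) := by rw [pow_succ, e1, one_mul]
    have e2 := congrArg (Units.val) e
    rw [Units.val_pow_eq_pow_val] at e2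
    exact e2
  · rw [orderOf_pow, ht, Nat.gcd_eq_right (Dvd.intro_left _ rfl), Nat.mul_div_cancel _ (by omega)]

/-- **Large `q`.** -/
theorem ss_large {K : Type u} [Field K] [Fintype K] {q p : ℕ} [Fact p.Prime] [CharP K p] (hq : IsPrimePow q)
    (hK : Fintype.card K = q ^ 2) {e : ℕ} (he : 1 ≤ e) (h : 22 * e < q - 1) : SS p e ↥(twistedE6 K q) := by
  obtain ⟨φ, hφ, hqq⟩ := TwE6Basic.exists_frob hq hK
  have := finite_tw K q
  have R := RGDTwE6.rgd CoxeterMatrix.F₄.toCoxeterSystem hφ hqq p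
  have : Finite CoxeterMatrix.F₄.Group := Cfsg.Agent.Nodes.RGDFold.finite_W (hp := RGDTwE6.hp)
    CoxeterMatrix.F₄.toCoxeterSystem RGDTwE6.isCartan RGDTwE6.foldData
  have hS := Cfsg.Agent.S1070.result hq hK
  have := hS.1
  obtain ⟨τ, hτ, ho⟩ := exists_unit hφ hq.one_lt hK
  obtain ⟨s, hs⟩ := exists_t hφ hqq hτ
  have h1 : ∀ j : ℤ, j ≠ 0 → -22 ≤ j → j ≤ 22 → (τ ^ e) ^ j ≠ 1 := by
    intro j hj hj1 hj2 h2
    rw [← zpow_natCast, ← zpow_mul] at h2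
    have h3 := orderOf_dvd_iff_zpow_eq_one.2 h2
    rw [ho] at h3
    have h4 : (e : ℤ) * j ≠ 0 := mul_ne_zero (by omega) hj
    have h5 := Int.le_of_dvd (abs_pos.2 h4) ((dvd_abs _ _).2 h3)
    have h6 : |(e : ℤ) * j| ≤ 22 * e := by
      rw [abs_mul, Nat.abs_cast, mul_comm]
      have h7 : |j| ≤ 22 := abs_le.2 ⟨hj1, hj2⟩
      exact mul_le_mul_of_nonneg_right h7 (by positivity)
    omega
  obtain ⟨g1, g2⟩ := nf_t hφ hqq CoxeterMatrix.F₄.toCoxeterSystem h1 hs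
  exact Cfsg.Agent.H928.War.Rgd.ss_nf R (RGDTwE6.G1_eq_top CoxeterMatrix.F₄.toCoxeterSystem hφ hqq)
    (Cfsg.Agent.H958.TS.TwCommon.coordP hφ hqq) (Cfsg.Agent.Nodes.ChevChart.irr_of Cfsg.Agent.Nodes.ChevChart.irrF)
    (mem_T hs) g1 g2

/-- **Two `p`-elements.** -/
theorem pp {K : Type u} [Field K] [Fintype K] {q p : ℕ} [Fact p.Prime] [CharP K p] (hq : IsPrimePow q)
    (hK : Fintype.card K = q ^ 2) : PP p ↥(twistedE6 K q) := by
  obtain ⟨φ, hφ, hqq⟩ := TwE6Basic.exists_frob hq hK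
  have := finite_tw K q
  have R := RGDTwE6.rgd CoxeterMatrix.F₄.toCoxeterSystem hφ hqq p
  have : Finite CoxeterMatrix.F₄.Group := Cfsg.Agent.Nodes.RGDFold.finite_W (hp := RGDTwE6.hp)
    CoxeterMatrix.F₄.toCoxeterSystem RGDTwE6.isCartan RGDTwE6.foldData
  have hS := Cfsg.Agent.S1070.result hq hK
  have := hS.1
  exact Cfsg.Agent.H928.War.Rgd.pp R (RGDTwE6.G1_eq_top CoxeterMatrix.F₄.toCoxeterSystem hφ hqq)
    (Cfsg.Agent.H958.TS.TwCommon.coordP hφ hqq) (Cfsg.Agent.Nodes.ChevChart.irr_of Cfsg.Agent.Nodes.ChevChart.irrF)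

/-! ### The numbers -/

theorem card_le {K : Type u} [Field K] [Fintype K] {q : ℕ} (hq : IsPrimePow q) (hK : Fintype.card K = q ^ 2) :
    Nat.card ↥(twistedE6 K q) ≤ q ^ 80 := by
  have h1 := Cfsg.Agent.S1066.result hq hK
  have h2 : 1 ≤ Nat.gcd 3 (q + 1) := Nat.gcd_pos_of_pos_left _ (by norm_num)
  have hq2 : 2 ≤ q := hq.two_le
  have h5 : q ^ 5 + 1 ≤ q ^ 6 := by
    have : 2 * q ^ 5 ≤ q * q ^ 5 := Nat.mul_le_mul_right _ hq2
    have h : 1 ≤ q ^ 5 := Nat.one_le_pow _ _ (by omega)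
    rw [pow_succ' q 5]
    omega
  have h9 : q ^ 9 + 1 ≤ q ^ 10 := by
    have : 2 * q ^ 9 ≤ q * q ^ 9 := Nat.mul_le_mul_right _ hq2
    have h : 1 ≤ q ^ 9 := Nat.one_le_pow _ _ (by omega)
    rw [pow_succ' q 9]
    omega
  calc Nat.card ↥(twistedE6 K q) ≤ Nat.gcd 3 (q + 1) * Nat.card ↥(twistedE6 K q) := Nat.le_mul_of_pos_left _ h2
    _ = q ^ 36 * (q ^ 2 - 1) * (q ^ 5 + 1) * (q ^ 6 - 1) * (q ^ 8 - 1) * (q ^ 9 + 1) * (q ^ 12 - 1) := h1
    _ ≤ q ^ 36 * q ^ 2 * q ^ 6 * q ^ 6 * q ^ 8 * q ^ 10 * q ^ 12 := by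
      gcongr
      · exact Nat.sub_le _ _
      · exact Nat.sub_le _ _
      · exact Nat.sub_le _ _
      · exact Nat.sub_le _ _
    _ = q ^ 80 := by ring

theorem arith {m q e : ℕ} (hm : 6 ≤ m) (h : m ^ (8 * m ^ 2) ≤ q ^ 80) (he : 2 * e ≤ m ^ 2) : 22 * e < q - 1 := by
  by_contra hc
  have h1 : q ≤ 12 * m ^ 2 := by
    have : 36 ≤ m ^ 2 := by nlinarith
    omega
  have h2 : q ^ 80 ≤ 12 ^ 80 * m ^ 160 := by
    calc q ^ 80 ≤ (12 * m ^ 2) ^ 80 := Nat.pow_le_pow_left h1 80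
      _ = 12 ^ 80 * m ^ 160 := by rw [mul_pow, ← pow_mul]
  have h3 : 288 ≤ 8 * m ^ 2 := by nlinarith
  have h4 : m ^ 288 ≤ m ^ (8 * m ^ 2) := Nat.pow_le_pow_right (by omega) h3
  have h5 : 6 ^ 128 * m ^ 160 ≤ m ^ 288 := by
    calc 6 ^ 128 * m ^ 160 ≤ m ^ 128 * m ^ 160 := Nat.mul_le_mul_right _ (Nat.pow_le_pow_left hm 128)
      _ = m ^ 288 := by rw [← pow_add]
  have h6 : 12 ^ 80 < 6 ^ 128 := by norm_num
  have h7 : 12 ^ 80 * m ^ 160 < 6 ^ 128 * m ^ 160 := Nat.mul_lt_mul_of_pos_right h6 (by positivity)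
  omega

end Cfsg.Agent.H928.War.TwT
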